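import Cfsg.Agent.SLBlocks.DefectZero

/-!
# The blocks of `SL(n, F)` in the defining characteristic
-/

set_option autoImplicit false
set_option linter.unusedSectionVars false

namespace Cfsg.Agent.SLBlocks

variable {F : Type*} [Field F] [Fintype F] {n : ℕ} {p : ℕ} [Fact p.Prime] [CharP F p]

local notation "SLn" => Matrix.SpecialLinearGroup (Fin n) F

theorem centralCentralizers_SL : CentralCentralizers p SLn := fun _ hD hne hrad _ hg hord =>
  mem_center_of_centralizes hD hne hrad hg hord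

theorem not_dvd_card_center (hn : 2 ≤ n) : ¬ p ∣ Nat.card (Subgroup.center SLn) := by
  haveI : Nonempty (Fin n) := ⟨⟨0, by omega⟩⟩
  rw [Linear.card_center_SL]
  exact fun h => not_dvd_card_sub_one (F := F) (p := p) (h.trans (Nat.gcd_dvd_right _ _))

theorem dvd_card_SL (hn : 2 ≤ n) : p ∣ Nat.card SLn := by
  refine (dvd_trans ?_ (Subgroup.card_subgroup_dvd_card (unitri n F)))
  obtain ⟨m, -, hm⟩ := FiniteField.card F p
  rw [card_unitri, hm, ← pow_mul]
  refine dvd_pow_self p (Nat.mul_ne_zero m.ne_zero ?_)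
  have : 2 ≤ n * (n - 1) := le_trans hn (Nat.le_mul_of_pos_right n (by omega))
  omega

theorem card_blocks_SL (hn : 2 ≤ n) {M : Ideal Cfsg.AlgInt} (hM : Cfsg.IsPModular p M) :
    Nat.card {B : Set (Cfsg.IrrCharacter SLn) // Cfsg.IsPBlock M B} =
      Nat.gcd n (Fintype.card F - 1) + 1 ∧
    Nat.card {B : Set (Cfsg.IrrCharacter SLn) // Cfsg.IsPBlock M B ∧ Cfsg.blockDefect p B = 0} = 1 ∧
    ∀ B : Set (Cfsg.IrrCharacter SLn), Cfsg.IsPBlock M B →
      Cfsg.blockDefect p B = 0 ∨ Cfsg.blockDefect p B = (Nat.card SLn).factorization p := by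
  have hC := centralCentralizers_SL (F := F) (n := n) (p := p)
  obtain ⟨χ₀, h₀⟩ := exists_defectZero (F := F) (p := p) hn
  have h1 := card_defect_zero_blocks hM χ₀ h₀ fun χ hχ => defectZero_unique hn χ χ₀ hχ h₀
  haveI : Nonempty (Fin n) := ⟨⟨0, by omega⟩⟩
  refine ⟨?_, h1, fun B hB => blockDefect_cases hC hM hB⟩
  rw [card_blocks_eq hC (dvd_card_SL hn) (not_dvd_card_center hn) hM, h1, Linear.card_center_SL,
    Fintype.card_fin]

end Cfsg.Agent.SLBlocks
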